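import Cfsg.Agent.Lib.KnownA.Weil.Heisenberg

/-!
# Landazuri–Seitz bound for the symplectic groups in odd characteristic

If a transvection of `Sp_{2k}(q)`, `q` odd, acts non-trivially on a finite-dimensional complex
representation, then the dimension is at least `(q^k - 1)/2`.
-/

set_option autoImplicit false

namespace CfsgLib.KnownA.Weil

open Matrix CfsgLib.Classical CfsgLib.KnownA.CentralChar

variable {n : ℕ} {F : Type*} [Field F] [Fintype F]
  {V : Type*} [AddCommGroup V] [Module ℂ V] (ρ : Representation ℂ (Matrix.symplecticGroup (Fin n) F) V)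
  [FiniteDimensional ℂ V]

omit [Fintype F] in
theorem stv_add (e : Sv n F) (a b : F) : stv (a + b) e = stv a e * stv b e := (stv_mul a b e).symm

theorem le_finrank_char (hodd : Odd (Fintype.card F)) {H : Submodule F (Sv n F)} (hN : SNondeg H)
    {e f : Sv n F} (hp : IsPair H e f) {k : ℕ} (hk : Module.finrank F (inner0 H e f) = 2 * k)
    (W : Submodule ℂ V) (hW : ∀ g ∈ stvClosure H, Stable ρ W g) (ψ : AddChar F ℂ) (hψ : ψ ≠ 1)
    (hne : W ⊓ space ρ (stv · e) ψ ≠ ⊥) :
    Fintype.card F ^ k ≤ Module.finrank ℂ ↥(W ⊓ space ρ (stv · e) ψ) := by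
  let u : inner0 H e f → Matrix.symplecticGroup (Fin n) F := fun i => sT e (i : Sv n F)
  have hi : ∀ i : inner0 H e f, sbil e (i : Sv n F) = 0 := fun i => (mem_inner0.mp i.2).2.1
  have hst : ∀ i, Stable ρ (W ⊓ space ρ (stv · e) ψ) (u i) := fun i =>
    stable_inf_space ρ (hW _ (sT_mem hp.he (mem_inner0.mp i.2).1))
      (fun a => stv_commute (sT_fix (hi i)) a)
  have key := card_le_sq ρ (W ⊓ space ρ (stv · e) ψ) hne u u hst hst
    (fun j i => ψ (2 * sbil (j : Sv n F) (i : Sv n F)))
    (fun j i v hv => by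
      rw [← Module.End.mul_apply, ← map_mul, stv_sT_comm (hi j) (hi i), map_mul, map_mul]
      exact (hst i _ (hst j v hv)).2 _)
    (fun i i' hii => by
      obtain ⟨d, hd⟩ : ∃ d, ψ d ≠ 1 := by
        by_contra hc
        push Not at hc
        exact hψ (DFunLike.ext _ _ fun d => by rw [hc, AddChar.one_apply])
      have h2 := two_ne hodd
      have hdiff : (i : Sv n F) - i' ≠ 0 := sub_ne_zero.mpr fun e => hii (Subtype.ext e)
      obtain ⟨y, hy, hy0⟩ := snondeg_inner0 hN hp _ (Submodule.sub_mem _ i.2 i'.2) hdiff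
      have hy1 : sbil y ((i : Sv n F) - i') ≠ 0 := by rw [sbil_swap]; simpa using hy0
      refine ⟨⟨(d / 2 / sbil y ((i : Sv n F) - i')) • y, Submodule.smul_mem _ _ hy⟩, fun heq => hd ?_⟩
      set y' : Sv n F := (d / 2 / sbil y ((i : Sv n F) - i')) • y with hy'
      have h1 : 2 * sbil y' (i : Sv n F) = 2 * sbil y' (i' : Sv n F) + d := by
        have : sbil y' ((i : Sv n F) - i') = d / 2 := by rw [hy', sbil_smul_left, div_mul_cancel₀ _ hy1]
        rw [sbil_sub_right] at this
        field_simp at this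
        linear_combination this
      simp only [← hy'] at heq
      rw [h1, AddChar.map_add_eq_mul] at heq
      refine (mul_eq_left₀ ?_).mp heq
      intro h0
      have := AddChar.map_add_eq_mul ψ (2 * sbil y' (i' : Sv n F)) (-(2 * sbil y' (i' : Sv n F)))
      rw [add_neg_cancel, AddChar.map_zero_eq_one, h0, zero_mul] at this
      exact one_ne_zero this)
  rw [Module.natCard_eq_pow_finrank (K := F), Nat.card_eq_fintype_card, hk, mul_comm, pow_mul] at key
  exact (Nat.pow_le_pow_iff_left two_ne_zero).mp key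

theorem sum_bound (e : Sv n F) (W : Submodule ℂ V) (S : Finset (AddChar F ℂ)) (h1 : (1 : AddChar F ℂ) ∉ S)
    (d : ℕ) (hd : ∀ φ ∈ S, d ≤ Module.finrank ℂ ↥(W ⊓ space ρ (stv · e) φ)) :
    S.card * d + Module.finrank ℂ ↥(W ⊓ space ρ (stv · e) 1) ≤ Module.finrank ℂ W := by
  classical
  have hsum := sum_finrank_le ρ (fun a => stv a e) W (insert 1 S)
  rw [Finset.sum_insert h1] at hsum
  have hge := Finset.card_nsmul_le_sum S (fun φ => Module.finrank ℂ ↥(W ⊓ space ρ (stv · e) φ)) d hd
  rw [smul_eq_mul] at hge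
  omega

omit [Fintype F] [FiniteDimensional ℂ V] in
/-- Conjugating a transvection moves its character spaces. -/
theorem ne_bot_move {e u : Sv n F} {g : Matrix.symplecticGroup (Fin n) F} (hge : g.1 *ᵥ e = u)
    (W : Submodule ℂ V) (hg : Stable ρ W g⁻¹) {x : V} (hxW : x ∈ W) (hx0 : x ≠ 0) {φ : AddChar F ℂ}
    (hx : ∀ c, ρ (stv c u) x = φ c • x) : W ⊓ space ρ (stv · e) φ ≠ ⊥ := by
  refine (Submodule.ne_bot_iff _).mpr ⟨ρ g⁻¹ x, ⟨hg x hxW, fun c => ?_⟩,
    fun h0 => hx0 (rho_injective ρ g⁻¹ (by rw [h0, map_zero]))⟩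
  have h : stv c e * g⁻¹ = g⁻¹ * stv c u := by
    rw [← hge, ← stv_conj]; group
  rw [← Module.End.mul_apply, ← map_mul, h, map_mul, Module.End.mul_apply, hx, map_smul]

/-- If all of the fixed space is fixed by a second point, every non-trivial character occurs. -/
theorem all_chars (hodd : Odd (Fintype.card F)) {H : Submodule F (Sv n F)} (hN : SNondeg H)
    {e f v w : Sv n F} (hp : IsPair H e f) (hv : IsPair (inner0 H e f) v w) (W : Submodule ℂ V)
    (hW : ∀ g ∈ stvClosure H, Stable ρ W g) {ψ : AddChar F ℂ} (hψ : ψ ≠ 1)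
    (hne : W ⊓ space ρ (stv · e) ψ ≠ ⊥)
    (hc : ∀ y ∈ W ⊓ space ρ (stv · e) 1, ∀ c, ρ (stv c v) y = y) :
    ∀ φ : AddChar F ℂ, φ ≠ 1 → W ⊓ space ρ (stv · e) φ ≠ ⊥ := by
  classical
  obtain ⟨hvH, hev, hfv⟩ := mem_inner0.mp hv.he
  obtain ⟨hwH, hew, hfw⟩ := mem_inner0.mp hv.hf
  have hav : ∀ a : F, sbil e (a • v) = 0 := fun a => by rw [sbil_smul_right, hev, mul_zero]
  have hbw : ∀ b : F, sbil e (b • w) = 0 := fun b => by rw [sbil_smul_right, hew, mul_zero]
  have hve : sbil v e = 0 := by rw [sbil_swap, hev, neg_zero]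
  have hv0 : v ≠ 0 := fun h0 => by have := hv.ef; simp [h0, sbil] at this
  have he0 : e ≠ 0 := fun h0 => by have := hp.ef; simp [h0, sbil] at this
  -- the two fixed spaces are equal
  obtain ⟨g, hg, hge⟩ := exists_move_vector hN hp.he hvH he0 hv0
  have hle : W ⊓ space ρ (stv · e) 1 ≤ W ⊓ space ρ (stv · v) 1 := fun y hy =>
    ⟨hy.1, (mem_space_one ρ).mpr (hc y hy)⟩
  have hmap : ∀ y ∈ W ⊓ space ρ (stv · v) 1, ρ g⁻¹ y ∈ W ⊓ space ρ (stv · e) 1 := by
    rintro y ⟨hyW, hyz⟩
    refine ⟨hW _ (inv_mem hg) y hyW, (mem_space_one ρ).mpr fun c => ?_⟩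
    have h : stv c e * g⁻¹ = g⁻¹ * stv c v := by rw [← hge, ← stv_conj]; group
    rw [← Module.End.mul_apply, ← map_mul, h, map_mul, Module.End.mul_apply,
      (mem_space_one ρ).mp hyz]
  have heq := Submodule.eq_of_le_of_finrank_le hle
    (LinearMap.finrank_le_finrank_of_injective (f := (ρ g⁻¹).restrict hmap)
      fun a b hab => Subtype.ext (rho_injective ρ g⁻¹ (congrArg Subtype.val hab)))
  -- a vector in the character space fixed by the elements of `v`
  set X := W ⊓ space ρ (stv · e) ψ with hX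
  let za : F → Matrix.symplecticGroup (Fin n) F := fun a => sT e (a • v)
  have hza : ∀ a b, za (a + b) = za a * za b := fun a b => by
    simp only [za]
    rw [sT_mul (hav a) (hav b), sbil_smul_left, sbil_smul_right, sbil_self, mul_zero, mul_zero, stv_zero,
      one_mul, add_smul]
  have hXT : ∀ x, sbil e x = 0 → x ∈ H → Stable ρ X (sT e x) := fun x hx hxH =>
    stable_inf_space ρ (hW _ (sT_mem hp.he hxH)) (fun a => stv_commute (sT_fix hx) a)
  have hXv : ∀ c, Stable ρ X (stv c v) := fun c =>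
    stable_inf_space ρ (hW _ (stv_mem_stvClosure c hvH))
      (fun a => stv_commute (by rw [stv_mulVec, hve, mul_zero, zero_smul, add_zero]) a)
  obtain ⟨α, hα⟩ := exists_char_any ρ za hza X (fun a => hXT _ (hav a) (H.smul_mem _ hvH)) hne
  obtain ⟨r, hr⟩ := exists_mulShift hψ α⁻¹
  have hX0 : X ⊓ space ρ za 1 ≠ ⊥ := by
    obtain ⟨x, ⟨hxX, hxα⟩, hx0⟩ := Submodule.exists_mem_ne_zero_of_ne_bot hα
    refine (Submodule.ne_bot_iff _).mpr ⟨ρ (sT e ((r / 2) • w)) x,
      ⟨hXT _ (hbw _) (H.smul_mem _ hwH) x hxX, (mem_space_one ρ).mpr fun a => ?_⟩,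
      fun h0 => hx0 (rho_injective ρ _ (by rw [h0, map_zero]))⟩
    have h2 := two_ne hodd
    have hs : 2 * sbil (a • v) ((r / 2) • w) = r * a := by
      rw [sbil_smul_left, sbil_smul_right, hv.ef]; field_simp
    simp only [za]
    rw [← Module.End.mul_apply, ← map_mul ρ, stv_sT_comm (hav a) (hbw _), hs, map_mul ρ, map_mul ρ,
      Module.End.mul_apply, Module.End.mul_apply, hxα a, map_smul, map_smul,
      (hXT _ (hbw _) (H.smul_mem _ hwH) x hxX).2, smul_smul]
    have h3 : ψ (r * a) = (α a)⁻¹ := by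
      rw [← AddChar.mulShift_apply, hr, AddChar.inv_apply, AddChar.map_neg_eq_inv]
    have h4 : α a ≠ 0 := by
      intro h0
      have := AddChar.map_add_eq_mul α a (-a)
      rw [add_neg_cancel, AddChar.map_zero_eq_one, h0, zero_mul] at this
      exact one_ne_zero this
    rw [h3, mul_inv_cancel₀ h4, one_smul]
  have hX0z : ∀ c, Stable ρ (X ⊓ space ρ za 1) (stv c v) := fun c =>
    stable_inf_space ρ (hXv c) fun a => by
      have := sT_conj (g := stv c v) (e := e) (by rw [stv_mulVec, hve, mul_zero, zero_smul, add_zero]) (a • v)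
      rw [stv_mulVec, sbil_smul_right, sbil_self, mul_zero, mul_zero, zero_smul, add_zero] at this
      simp only [za]
      conv_lhs => rw [← this]
      group
  obtain ⟨φ, hφ⟩ := exists_char_any ρ (fun c => stv c v) (fun a b => stv_add v a b) _ hX0z hX0
  obtain ⟨x, ⟨⟨hxX, hxA⟩, hxφ⟩, hx0⟩ := Submodule.exists_mem_ne_zero_of_ne_bot hφ
  obtain ⟨s, hs⟩ := exists_mulShift hψ φ
  have hs0 : s ≠ 0 := by
    rintro rfl
    have hx1 : x ∈ W ⊓ space ρ (stv · e) 1 := heq ▸
      (⟨hxX.1, (mem_space_one ρ).mpr fun c => by rw [hxφ c, ← hs, AddChar.mulShift_apply, zero_mul,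
        AddChar.map_zero_eq_one, one_smul]⟩ : x ∈ W ⊓ space ρ (stv · v) 1)
    apply hψ
    refine DFunLike.ext _ _ fun c => ?_
    rw [AddChar.one_apply]
    refine smul_left_injective ℂ hx0 (show ψ c • x = (1 : ℂ) • x from ?_)
    rw [one_smul, ← hxX.2 c]
    exact (mem_space_one ρ).mp hx1.2 c
  intro χ hχ
  obtain ⟨t, rfl⟩ := exists_mulShift hψ χ
  have ht : t ≠ 0 := fun h0 => hχ (by
    refine DFunLike.ext _ _ fun c => ?_
    simp [h0, AddChar.mulShift_apply])
  obtain ⟨a, b, hab⟩ := exists_sq_add_mul_sq hodd hs0 t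
  have huH : a • e + b • v ∈ H := H.add_mem (H.smul_mem _ hp.he) (H.smul_mem _ hvH)
  have hu0 : a • e + b • v ≠ 0 := by
    intro h0
    have h1 := congrArg (sbil f) h0
    have h2 := congrArg (sbil w) h0
    have hwv : sbil w v = -1 := by rw [sbil_swap, hv.ef]
    have hwe : sbil w e = 0 := by rw [sbil_swap, hew, neg_zero]
    simp only [sbil_add_right, sbil_smul_right, hp.fe, hfv, hwe, hwv] at h1 h2
    simp [sbil] at h1 h2
    subst h1 h2
    exact ht (by rw [← hab]; ring)
  obtain ⟨k, hk, hke⟩ := exists_move_vector hN hp.he huH he0 hu0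
  refine ne_bot_move ρ hke W (hW _ (inv_mem hk)) hxX.1 hx0 fun c => ?_
  have hxA1 : ρ (sT e ((c * (a * b)) • v)) x = x := by
    simpa using hxA (c * (a * b))
  rw [stv_combination hev, map_mul, map_mul, Module.End.mul_apply, Module.End.mul_apply, hxA1, hxφ,
    map_smul, hxX.2, smul_smul]
  congr 1
  rw [← hs, AddChar.mulShift_apply, AddChar.mulShift_apply, ← AddChar.map_add_eq_mul, ← hab]
  congr 1
  ring

/-- The Landazuri–Seitz bound on a non-degenerate subspace of dimension `2k`. -/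
theorem bound (hodd : Odd (Fintype.card F)) :
    ∀ (k : ℕ) (H : Submodule F (Sv n F)), Module.finrank F H = 2 * k → SNondeg H →
      ∀ W : Submodule ℂ V, (∀ g ∈ stvClosure H, Stable ρ W g) →
        (∃ (v : Sv n F) (c : F), v ∈ H ∧ ∃ x ∈ W, ρ (stv c v) x ≠ x) →
          (Fintype.card F ^ k - 1) / 2 ≤ Module.finrank ℂ W := by
  classical
  intro k
  induction k with
  | zero => intro H _ _ W _ _; simp
  | succ k ih =>
    intro H hH hN W hW ⟨e, c₀, heH, x, hxW, hx⟩
    have he0 : e ≠ 0 := by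
      rintro rfl
      apply hx
      have : stv c₀ (0 : Sv n F) = 1 := sp_ext fun y => by simp
      rw [this, map_one]; rfl
    obtain ⟨f, hp⟩ := exists_pair hN heH he0
    have hk : Module.finrank F (inner0 H e f) = 2 * k := by
      have := finrank_inner0 hp; omega
    have hN0 := snondeg_inner0 hN hp
    obtain ⟨ψ, hψ, hne⟩ := exists_char ρ (fun c => stv c e) (fun a b => stv_add e a b) W
      (fun c => hW _ (stv_mem_stvClosure c heH)) hxW hx
    have hd : ∀ φ, φ ≠ 1 → W ⊓ space ρ (stv · e) φ ≠ ⊥ →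
        Fintype.card F ^ k ≤ Module.finrank ℂ ↥(W ⊓ space ρ (stv · e) φ) := fun φ h1 h2 =>
      le_finrank_char ρ hodd hN hp hk W hW φ h1 h2
    have hsq : ∀ t : F, t ≠ 0 → W ⊓ space ρ (stv · e) (AddChar.mulShift ψ (t ^ 2)) ≠ ⊥ := by
      intro t ht
      obtain ⟨y, ⟨hyW, hy⟩, hy0⟩ := Submodule.exists_mem_ne_zero_of_ne_bot hne
      obtain ⟨g, hg, hge⟩ := exists_move_vector hN hp.he (H.smul_mem t hp.he) he0 (smul_ne_zero ht he0)
      refine ne_bot_move ρ hge W (hW _ (inv_mem hg)) hyW hy0 fun c => ?_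
      rw [stv_smul, hy, AddChar.mulShift_apply, mul_comm]
    obtain ⟨S, hScard, hS⟩ := exists_square_shifts hψ
    have hmain := sum_bound ρ e W S (fun h1 => (hS 1 h1).1 rfl) (Fintype.card F ^ k) (fun φ hφ => by
      obtain ⟨hφ1, t, ht, rfl⟩ := hS φ hφ
      exact hd _ hφ1 (hsq t ht))
    obtain ⟨p, hq⟩ : ∃ p, Fintype.card F = 2 * p + 1 := id hodd
    have hp1 : 1 ≤ p := by
      have := Fintype.one_lt_card (α := F)
      omega
    have hpow : ∀ j, Odd (Fintype.card F ^ j) := fun j => (show Odd (Fintype.card F) from ⟨p, hq⟩).pow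
    obtain ⟨M, hM⟩ := hpow k
    have htarget : (Fintype.card F ^ (k + 1) - 1) / 2 = p * Fintype.card F ^ k + M := by
      rw [pow_succ, hM, hq,
        show (2 * M + 1) * (2 * p + 1) - 1 = 2 * (p * (2 * M + 1) + M) by
          have : (2 * M + 1) * (2 * p + 1) = 2 * (p * (2 * M + 1) + M) + 1 := by ring
          omega]
      omega
    rw [htarget]
    have hSp : p ≤ S.card := by omega
    have hMle : (Fintype.card F ^ k - 1) / 2 = M := by omega
    rcases Nat.eq_zero_or_pos k with rfl | hk0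
    · simp at hM
      subst hM
      have := Nat.mul_le_mul_right (Fintype.card F ^ 0) hSp
      omega
    by_cases hex : ∃ (u : Sv n F) (c : F), u ∈ inner0 H e f ∧
        ∃ y ∈ W ⊓ space ρ (stv · e) 1, ρ (stv c u) y ≠ y
    · have := ih (inner0 H e f) hk hN0 (W ⊓ space ρ (stv · e) 1) (fun g hg =>
        stable_inf_space ρ (hW g (stvClosure_mono (inner0_le H e f) hg))
          (fun a => stv_commute (fix_of_inner0 hg) a)) hex
      have h2 := Nat.mul_le_mul_right (Fintype.card F ^ k) hSp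
      omega
    · push Not at hex
      obtain ⟨v, hv, hv0⟩ : ∃ v ∈ inner0 H e f, v ≠ 0 := by
        refine Submodule.exists_mem_ne_zero_of_ne_bot fun hb => ?_
        rw [hb, finrank_bot] at hk; omega
      obtain ⟨w, hvw⟩ := exists_pair hN0 hv hv0
      have hall := all_chars ρ hodd hN hp hvw W hW hψ hne (fun y hy c => hex v c hv y hy)
      have hmain' := sum_bound ρ e W (Finset.univ.erase 1) (fun h1 => Finset.ne_of_mem_erase h1 rfl)
        (Fintype.card F ^ k) (fun φ hφ => hd φ (Finset.ne_of_mem_erase hφ) (hall φ (Finset.ne_of_mem_erase hφ)))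
      rw [Finset.card_erase_of_mem (Finset.mem_univ _), Finset.card_univ, AddChar.card_eq, hq,
        Nat.add_sub_cancel] at hmain'
      have h2 : p * (2 * p + 1) ^ k + M ≤ 2 * p * (2 * p + 1) ^ k := by
        rw [← hq, hM]
        nlinarith
      rw [hq]
      omega

/-- A representation of dimension less than the bound is trivial. -/
theorem trivial_of_lt (hodd : Odd (Fintype.card F)) (W : Submodule ℂ V)
    (hW : ∀ g, Stable ρ W g) (hlt : Module.finrank ℂ W < (Fintype.card F ^ n - 1) / 2) :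
    ∀ g, ∀ x ∈ W, ρ g x = x := by
  have hz : ∀ (a : F) (v : Sv n F), ∀ x ∈ W, ρ (stv a v) x = x := by
    intro a v x hx
    by_contra hne
    have := bound ρ hodd n ⊤ (by rw [finrank_top, Module.finrank_fintype_fun_eq_card]; simp; ring)
      snondeg_top W (fun g _ => hW g) ⟨v, a, trivial, x, hx, hne⟩
    omega
  intro g
  have : g ∈ stvClosure (⊤ : Submodule F (Sv n F)) := by rw [stvClosure_top]; trivial
  induction this using Subgroup.closure_induction with
  | mem g hg => obtain ⟨a, v, -, rfl⟩ := hg; exact hz a v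
  | one => intro x _; rw [map_one]; rfl
  | mul g h _ _ ihg ihh => intro x hx; rw [map_mul, Module.End.mul_apply, ihh x hx, ihg x hx]
  | inv g _ ihg =>
    intro x hx
    conv_lhs => rw [← ihg x hx]
    rw [← Module.End.mul_apply, ← map_mul, inv_mul_cancel, map_one]
    rfl

end CfsgLib.KnownA.Weil

namespace CfsgLib.KnownA.Weil

open Matrix CfsgLib.Classical CfsgLib.KnownA.CentralChar

variable {n : ℕ} {F : Type*} [Field F] [Fintype F]

/-- A non-linear irreducible representation has degree at least `(q^n - 1)/2`. -/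
theorem irreducible_bound (hodd : Odd (Fintype.card F)) (k : ℕ)
    (π : Representation ℂ (Matrix.symplecticGroup (Fin n) F) (Fin k → ℂ)) (hirr : π.IsIrreducible)
    (hk : 2 ≤ k) : (Fintype.card F ^ n - 1) / 2 ≤ k := by
  by_contra hlt
  have htriv : ∀ g x, π g x = x := fun g x =>
    trivial_of_lt π hodd ⊤ (fun _ _ _ => Submodule.mem_top)
      (by rw [finrank_top, Module.finrank_fin_fun]; omega) g x Submodule.mem_top
  let ρ0 : Subrepresentation π :=
    { toSubmodule := Submodule.span ℂ {Pi.single ⟨0, by omega⟩ 1}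
      apply_mem_toSubmodule := fun g v hv => by rwa [htriv g v] }
  have hne : ρ0 ≠ ⊥ := by
    intro h0
    have h1 : (Pi.single ⟨0, by omega⟩ 1 : Fin k → ℂ) ∈ ρ0.toSubmodule := Submodule.subset_span rfl
    rw [h0] at h1
    have h2 := congrFun ((Submodule.mem_bot ℂ).mp h1) ⟨0, by omega⟩
    simp at h2
  have htop := hirr.eq_bot_or_eq_top ρ0 |>.resolve_left hne
  have h1 : (Pi.single ⟨1, by omega⟩ 1 : Fin k → ℂ) ∈ ρ0.toSubmodule := by rw [htop]; trivial
  obtain ⟨a, ha⟩ := Submodule.mem_span_singleton.mp h1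
  have h2 := congrFun ha ⟨1, by omega⟩
  simp [Fin.ext_iff] at h2

end CfsgLib.KnownA.Weil
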