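import Cfsg.Agent.Lib.KnownA.Weil.Bound

/-!
# The Weil representation of `Sp_{2n}(q)`, `q` odd

The operators of the Heisenberg group on the functions on `F^n`, the intertwiners of the elements of `Sp`,
and their normalisation by the determinants on the even and on the odd functions.
-/

set_option autoImplicit false

namespace CfsgLib.KnownA.Weil

open Matrix CfsgLib.Classical

noncomputable section

variable {n : ℕ} {F : Type*} [Field F] [Fintype F] {ψ : AddChar F ℂ}

/-- The functions on `F^n`. -/
abbrev Fn (n : ℕ) (F : Type*) := (Fin n → F) → ℂ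

/-- The operator of a point of the symplectic space. -/
def op (ψ : AddChar F ℂ) (v : Sv n F) : Module.End ℂ (Fn n F) where
  toFun f x := ψ ((v ∘ Sum.inr) ⬝ᵥ x + 2⁻¹ * ((v ∘ Sum.inr) ⬝ᵥ (v ∘ Sum.inl))) * f (x + v ∘ Sum.inl)
  map_add' f g := by funext x; simp [mul_add]
  map_smul' c f := by funext x; simp [mul_left_comm]

omit [Fintype F] in
theorem op_apply (v : Sv n F) (f : Fn n F) (x : Fin n → F) :
    op ψ v f x = ψ ((v ∘ Sum.inr) ⬝ᵥ x + 2⁻¹ * ((v ∘ Sum.inr) ⬝ᵥ (v ∘ Sum.inl))) *
      f (x + v ∘ Sum.inl) := rfl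

omit [Fintype F] in
theorem sbil_eq (v w : Sv n F) :
    sbil v w = (v ∘ Sum.inr) ⬝ᵥ (w ∘ Sum.inl) - (w ∘ Sum.inr) ⬝ᵥ (v ∘ Sum.inl) := by
  rw [sbil_apply, dotProduct, dotProduct, ← Finset.sum_sub_distrib]
  exact Finset.sum_congr rfl fun i _ => by simp; ring

omit [Fintype F] in
theorem op_mul (h2 : (2 : F) ≠ 0) (v w : Sv n F) :
    op ψ v * op ψ w = ψ (-(2⁻¹ * sbil v w)) • op ψ (v + w) := by
  refine LinearMap.ext fun f => funext fun x => ?_
  simp only [Module.End.mul_apply, LinearMap.smul_apply, Pi.smul_apply, smul_eq_mul, op_apply]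
  rw [show (v + w) ∘ Sum.inl = v ∘ Sum.inl + w ∘ Sum.inl from rfl,
    show (v + w) ∘ Sum.inr = v ∘ Sum.inr + w ∘ Sum.inr from rfl, ← mul_assoc, ← mul_assoc,
    ← AddChar.map_add_eq_mul, ← AddChar.map_add_eq_mul, add_assoc x]
  congr 2
  simp only [sbil_eq, dotProduct_add, add_dotProduct]
  field_simp
  ring

omit [Fintype F] in
theorem op_zero : op ψ (0 : Sv n F) = 1 := by
  refine LinearMap.ext fun f => funext fun x => ?_
  rw [op_apply, show (0 : Sv n F) ∘ Sum.inl = 0 from rfl, show (0 : Sv n F) ∘ Sum.inr = 0 from rfl]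
  simp

omit [Fintype F] in
theorem op_conj (h2 : (2 : F) ≠ 0) (u v : Sv n F) :
    op ψ u * op ψ v * op ψ (-u) = ψ (-sbil u v) • op ψ v := by
  rw [op_mul h2, smul_mul_assoc, op_mul h2, smul_smul, ← AddChar.map_add_eq_mul, add_comm u v,
    add_neg_cancel_right]
  congr 2
  rw [show -u = (-1 : F) • u from (neg_one_smul F u).symm, sbil_smul_right, sbil_add_left, sbil_self,
    sbil_swap u v]
  field_simp
  ring

omit [Fintype F] in
theorem psi_ne_zero (ψ : AddChar F ℂ) (x : F) : ψ x ≠ 0 := fun h => by
  have := AddChar.map_add_eq_mul ψ x (-x)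
  rw [add_neg_cancel, AddChar.map_zero_eq_one, h, zero_mul] at this
  exact one_ne_zero this

/-- The point with the given second half. -/
def pR (b : Fin n → F) : Sv n F := Sum.elim 0 b

/-- The point with the given first half. -/
def pL (a : Fin n → F) : Sv n F := Sum.elim a 0

omit [Fintype F] in
theorem op_pR (b : Fin n → F) (f : Fn n F) (x : Fin n → F) : op ψ (pR b) f x = ψ (b ⬝ᵥ x) * f x := by
  rw [op_apply]; simp [pR, Sum.elim_comp_inl, Sum.elim_comp_inr]

omit [Fintype F] in
theorem op_pL (a : Fin n → F) (f : Fn n F) (x : Fin n → F) : op ψ (pL a) f x = f (x + a) := by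
  rw [op_apply]; simp [pL, Sum.elim_comp_inl, Sum.elim_comp_inr]

omit [Fintype F] in
theorem exists_sep (hψ : ψ ≠ 1) {x y : Fin n → F} (h : x ≠ y) :
    ∃ b : Fin n → F, ψ (b ⬝ᵥ x) ≠ ψ (b ⬝ᵥ y) := by
  obtain ⟨i, hi⟩ := Function.ne_iff.1 h
  obtain ⟨t, ht⟩ : ∃ t, ψ t ≠ 1 := by
    by_contra hc
    push Not at hc
    exact hψ (DFunLike.ext _ _ fun d => by rw [hc, AddChar.one_apply])
  refine ⟨Pi.single i (t / (x i - y i)), fun he => ht ?_⟩
  rw [single_dotProduct, single_dotProduct,
    show t / (x i - y i) * x i = t / (x i - y i) * y i + t by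
      have := sub_ne_zero.2 hi; field_simp; ring,
    AddChar.map_add_eq_mul] at he
  exact (mul_eq_left₀ (psi_ne_zero ψ _)).1 he

omit [Fintype F] in
/-- An operator commuting with all of the Heisenberg operators is a scalar. -/
theorem scalar_of_comm [Fintype F] [DecidableEq F] (hψ : ψ ≠ 1) (T : Module.End ℂ (Fn n F))
    (h : ∀ v, T * op ψ v = op ψ v * T) : ∃ c : ℂ, T = c • 1 := by
  have hdiag : ∀ x y, x ≠ y → T (Pi.single x 1) y = 0 := by
    intro x y hxy
    obtain ⟨b, hb⟩ := exists_sep hψ hxy
    have h1 : op ψ (pR b) (Pi.single x 1) = ψ (b ⬝ᵥ x) • (Pi.single x 1 : Fn n F) := by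
      funext z
      rw [op_pR]
      rcases eq_or_ne z x with rfl | hz
      · simp
      · simp [hz]
    have h2 := congrArg (fun S : Module.End ℂ (Fn n F) => S (Pi.single x 1) y) (h (pR b))
    simp only [Module.End.mul_apply, h1, map_smul, Pi.smul_apply, smul_eq_mul, op_pR] at h2
    exact (mul_eq_mul_right_iff.1 h2).resolve_left hb
  have hshift : ∀ x, T (Pi.single x 1) x = T (Pi.single 0 1) 0 := by
    intro x
    have h1 : op ψ (pL x) (Pi.single x 1) = (Pi.single 0 1 : Fn n F) := by
      funext z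
      rw [op_pL]
      rcases eq_or_ne z 0 with rfl | hz
      · simp
      · simp [hz]
    have h2 := congrArg (fun S : Module.End ℂ (Fn n F) => S (Pi.single x 1) 0) (h (pL x))
    simp only [Module.End.mul_apply, h1, op_pL, zero_add] at h2
    exact h2.symm
  refine ⟨T (Pi.single 0 1) 0, (Pi.basisFun ℂ (Fin n → F)).ext fun x => funext fun y => ?_⟩
  rw [Pi.basisFun_apply]
  rcases eq_or_ne x y with rfl | hxy
  · simp [hshift]
  · simp [hdiag x y hxy, hxy.symm]

theorem op_independent (hψ : ψ ≠ 1) (h2 : (2 : F) ≠ 0) (c : Sv n F → ℂ)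
    (h : ∑ v, c v • op ψ v = 0) (v0 : Sv n F) : c v0 = 0 := by
  classical
  have hsum : ∀ d : Sv n F, ∑ u, ψ (sbil u d) = if d = 0 then (Fintype.card (Sv n F) : ℂ) else 0 := by
    intro d
    split_ifs with hd
    · subst hd
      simp [sbil]
    · let χ : AddChar (Sv n F) ℂ :=
        { toFun := fun u => ψ (sbil u d)
          map_zero_eq_one' := by simp [sbil]
          map_add_eq_mul' := fun a b => by rw [sbil_add_left, AddChar.map_add_eq_mul] }
      refine AddChar.sum_eq_zero_of_ne_one (ψ := χ) fun h1 => ?_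
      obtain ⟨z, hz⟩ := exists_sbil_eq_one hd
      obtain ⟨t, ht⟩ : ∃ t, ψ t ≠ 1 := by
        by_contra hc
        push Not at hc
        exact hψ (DFunLike.ext _ _ fun d => by rw [hc, AddChar.one_apply])
      have h3 : χ ((-t) • z) = 1 := by rw [h1, AddChar.one_apply]
      refine ht ?_
      change ψ (sbil ((-t) • z) d) = 1 at h3
      rwa [sbil_smul_left, sbil_swap, hz, mul_neg_one, neg_neg] at h3
  have h1 : ∑ u, ψ (sbil u v0) • (op ψ u * (∑ v, c v • op ψ v) * op ψ (-u)) = 0 := by
    simp [h]
  simp only [Finset.mul_sum, Finset.sum_mul, mul_smul_comm, smul_mul_assoc, op_conj h2, Finset.smul_sum,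
    smul_smul] at h1
  rw [Finset.sum_comm] at h1
  have h3 : ∀ v, ∑ u, (ψ (sbil u v0) * (c v * ψ (-sbil u v))) • op ψ v =
      (c v * if v0 - v = 0 then (Fintype.card (Sv n F) : ℂ) else 0) • op ψ v := by
    intro v
    rw [← Finset.sum_smul, ← hsum, Finset.mul_sum]
    congr 1
    refine Finset.sum_congr rfl fun u _ => ?_
    rw [sbil_sub_right, sub_eq_add_neg, AddChar.map_add_eq_mul]
    ring
  rw [Finset.sum_congr rfl fun v _ => h3 v,
    Finset.sum_eq_single v0 (fun v _ hv => by simp [sub_eq_zero, Ne.symm hv]) (by simp), sub_self, if_pos rfl]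
    at h1
  have hop : op ψ v0 ≠ 0 := fun h0 => by
    have := op_mul (ψ := ψ) h2 v0 (-v0)
    rw [h0, zero_mul, add_neg_cancel, op_zero] at this
    exact (smul_ne_zero (psi_ne_zero ψ _) one_ne_zero) this.symm
  exact (mul_eq_zero.1 ((smul_eq_zero.1 h1).resolve_right hop)).resolve_right
    (Nat.cast_ne_zero.2 Fintype.card_ne_zero)

/-- `T` moves the operators by `g`. -/
def Inter (ψ : AddChar F ℂ) (g : Matrix.symplecticGroup (Fin n) F) (T : Module.End ℂ (Fn n F)) : Prop :=
  ∀ u, T * op ψ u = op ψ (g.1 *ᵥ u) * T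

omit [Fintype F] in
theorem inter_mul {g h : Matrix.symplecticGroup (Fin n) F} {T S : Module.End ℂ (Fn n F)}
    (hT : Inter ψ g T) (hS : Inter ψ h S) : Inter ψ (g * h) (T * S) := fun u => by
  rw [mul_assoc, hS, ← mul_assoc, hT, mul_assoc, sp_mul_mulVec]

theorem exists_inter [DecidableEq F] (hψ : ψ ≠ 1) (h2 : (2 : F) ≠ 0)
    (g : Matrix.symplecticGroup (Fin n) F) :
    ∃ T : Module.End ℂ (Fn n F), Inter ψ g T ∧ Function.Injective T := by
  classical
  let avg : Module.End ℂ (Fn n F) → Module.End ℂ (Fn n F) :=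
    fun A => ∑ v, op ψ (g.1 *ᵥ v) * A * op ψ (-v)
  have havg : ∀ A, Inter ψ g (avg A) := by
    intro A u
    simp only [avg, Finset.sum_mul, Finset.mul_sum]
    refine (Fintype.sum_equiv (Equiv.addLeft u) _ _ fun v => ?_).symm
    rw [Equiv.coe_addLeft, mul_assoc _ (op ψ (-(u + v))) (op ψ u), op_mul h2, ← mul_assoc,
      ← mul_assoc (op ψ (g.1 *ᵥ u)), op_mul h2, mulVec_add, sbil_mulVec, mul_smul_comm, smul_mul_assoc,
      smul_mul_assoc, neg_add, neg_add_cancel_comm]
    congr 2
    rw [show -u + -v = (-1 : F) • (u + v) from by module, sbil_smul_left, sbil_add_left, sbil_self,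
      sbil_swap u v]
    ring
  obtain ⟨A, hA⟩ : ∃ A, avg A ≠ 0 := by
    by_contra! hz
    let x0 : Fin n → F := 0
    have key : ∀ φ : Fn n F, ∑ v, (op ψ (-v) (Pi.single x0 1) x0) • op ψ (g.1 *ᵥ v) φ = 0 := by
      intro φ
      have := congrArg (fun S : Module.End ℂ (Fn n F) => S (Pi.single x0 1))
        (hz ((LinearMap.proj (R := ℂ) x0).smulRight φ))
      simpa [avg, LinearMap.sum_apply] using this
    have hind := op_independent hψ h2 (fun v => op ψ (-((g⁻¹).1 *ᵥ v)) (Pi.single x0 1) x0) (by
      refine LinearMap.ext fun φ => ?_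
      rw [LinearMap.sum_apply, LinearMap.zero_apply]
      refine Eq.trans ?_ (key φ)
      refine Fintype.sum_equiv
        ⟨fun v => (g⁻¹).1 *ᵥ v, fun v => g.1 *ᵥ v, fun v => sp_mulVec_inv g v, fun v => sp_inv_mulVec g v⟩ _ _
        fun v => ?_
      show _ = op ψ (-((g⁻¹).1 *ᵥ v)) (Pi.single x0 1) x0 • op ψ (g.1 *ᵥ ((g⁻¹).1 *ᵥ v)) φ
      rw [sp_mulVec_inv, LinearMap.smul_apply]) 0
    rw [mulVec_zero, neg_zero, op_zero] at hind
    simp at hind
  refine ⟨avg A, havg A, ?_⟩
  set T := avg A
  have hT := havg A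
  rw [← LinearMap.ker_eq_bot]
  by_contra hker
  obtain ⟨f, hf, hf0⟩ := Submodule.exists_mem_ne_zero_of_ne_bot hker
  have hinv : ∀ u, ∀ f, T f = 0 → T (op ψ u f) = 0 := fun u f hf => by
    rw [← Module.End.mul_apply, hT, Module.End.mul_apply, hf, map_zero]
  obtain ⟨x0, hx0⟩ := Function.ne_iff.1 hf0
  have hδ : T (Pi.single x0 1) = 0 := by
    have hsum : ∑ b : Fin n → F, ψ (-(b ⬝ᵥ x0)) • op ψ (pR b) f =
        ((Fintype.card (Fin n → F) : ℂ) * f x0) • (Pi.single x0 1 : Fn n F) := by
      funext z
      simp only [Finset.sum_apply, Pi.smul_apply, smul_eq_mul, op_pR, ← mul_assoc,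
        ← AddChar.map_add_eq_mul, ← Finset.sum_mul]
      rcases eq_or_ne z x0 with rfl | hz
      · simp
      · rw [Pi.single_eq_of_ne hz, mul_zero]
        let χ : AddChar (Fin n → F) ℂ :=
          { toFun := fun b => ψ (-(b ⬝ᵥ x0) + b ⬝ᵥ z)
            map_zero_eq_one' := by simp
            map_add_eq_mul' := fun a b => by
              rw [← AddChar.map_add_eq_mul]; congr 1; simp only [add_dotProduct]; ring }
        refine mul_eq_zero_of_left (AddChar.sum_eq_zero_of_ne_one (ψ := χ) fun h1 => ?_) _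
        obtain ⟨b, hb⟩ := exists_sep hψ hz
        have h3 : χ b = 1 := by rw [h1, AddChar.one_apply]
        change ψ (-(b ⬝ᵥ x0) + b ⬝ᵥ z) = 1 at h3
        refine hb ?_
        rw [show b ⬝ᵥ z = b ⬝ᵥ x0 + (-(b ⬝ᵥ x0) + b ⬝ᵥ z) by ring, AddChar.map_add_eq_mul, h3, mul_one]
    have h4 := congrArg T hsum
    rw [map_sum, map_smul, Finset.sum_eq_zero fun b _ => by
      rw [map_smul, hinv _ f hf, smul_zero]] at h4
    exact (smul_eq_zero.1 h4.symm).resolve_left
      (mul_ne_zero (Nat.cast_ne_zero.2 Fintype.card_ne_zero) hx0)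
  refine hA ((Pi.basisFun ℂ (Fin n → F)).ext fun x => ?_)
  rw [Pi.basisFun_apply, LinearMap.zero_apply]
  have h5 : op ψ (pL (x0 - x)) (Pi.single x0 1) = (Pi.single x 1 : Fn n F) := by
    funext z
    rw [op_pL]
    rcases eq_or_ne z x with rfl | hz
    · simp
    · rw [Pi.single_eq_of_ne hz, Pi.single_eq_of_ne]
      exact fun he => hz (by
        have := congrArg (fun t => t - (x0 - x)) he
        simpa [add_sub_cancel_right, sub_sub_cancel] using this)
  rw [← h5]
  exact hinv _ _ hδ

/-- The parity. -/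
def par (n : ℕ) (F : Type*) [Field F] : Module.End ℂ (Fn n F) where
  toFun f x := f (-x)
  map_add' _ _ := rfl
  map_smul' _ _ := rfl

omit [Fintype F] in
theorem par_par : par n F * par n F = 1 := by
  refine LinearMap.ext fun f => funext fun x => ?_
  simp [par]

omit [Fintype F] in
theorem par_op (v : Sv n F) : par n F * op ψ v = op ψ (-v) * par n F := by
  refine LinearMap.ext fun f => funext fun x => ?_
  show op ψ v f (-x) = op ψ (-v) (par n F f) x
  rw [op_apply, op_apply]
  show _ = _ * f (-(x + (-v) ∘ Sum.inl))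
  rw [show (-v) ∘ Sum.inl = -(v ∘ Sum.inl) from rfl, show (-v) ∘ Sum.inr = -(v ∘ Sum.inr) from rfl]
  simp [neg_dotProduct, dotProduct_neg, add_comm]

theorem trace_par [DecidableEq F] (h2 : (2 : F) ≠ 0) : LinearMap.trace ℂ (Fn n F) (par n F) = 1 := by
  rw [LinearMap.trace_eq_matrix_trace ℂ (Pi.basisFun ℂ (Fin n → F)), Matrix.trace,
    Finset.sum_eq_single (0 : Fin n → F)]
  · simp [LinearMap.toMatrix_apply, par]
  · intro x _ hx
    have : -x ≠ x := fun h => hx (by
      funext i
      have := congrFun h i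
      simp only [Pi.neg_apply] at this
      have : (2 : F) * x i = 0 := by linear_combination -this
      exact (mul_eq_zero.1 this).resolve_left h2)
    simp [LinearMap.toMatrix_apply, par, this]
  · simp

/-- The odd functions. -/
def oddFn (n : ℕ) (F : Type*) [Field F] : Submodule ℂ (Fn n F) where
  carrier := {f | ∀ x, f (-x) = -f x}
  add_mem' {f g} hf hg x := by simp [hf x, hg x]; ring
  zero_mem' x := by simp
  smul_mem' c f hf x := by simp [hf x]

/-- The even functions. -/
def evenFn (n : ℕ) (F : Type*) [Field F] : Submodule ℂ (Fn n F) where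
  carrier := {f | ∀ x, f (-x) = f x}
  add_mem' {f g} hf hg x := by simp [hf x, hg x]
  zero_mem' x := by simp
  smul_mem' c f hf x := by simp [hf x]

theorem finrank_odd_even [DecidableEq F] (h2 : (2 : F) ≠ 0) :
    Module.finrank ℂ (oddFn n F) = (Fintype.card F ^ n - 1) / 2 ∧
      Module.finrank ℂ (evenFn n F) = Module.finrank ℂ (oddFn n F) + 1 := by
  have hproj : LinearMap.IsProj (oddFn n F) ((1 / 2 : ℂ) • (1 - par n F)) := by
    refine ⟨fun f x => ?_, fun f hf => funext fun x => ?_⟩
    · show (1 / 2 : ℂ) * (f (-x) - f (- -x)) = -((1 / 2 : ℂ) * (f x - f (-x)))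
      rw [neg_neg]; ring
    · show (1 / 2 : ℂ) * (f x - f (-x)) = f x
      rw [hf x]; ring
  have hproj' : LinearMap.IsProj (evenFn n F) ((1 / 2 : ℂ) • (1 + par n F)) := by
    refine ⟨fun f x => ?_, fun f hf => funext fun x => ?_⟩
    · show (1 / 2 : ℂ) * (f (-x) + f (- -x)) = (1 / 2 : ℂ) * (f x + f (-x))
      rw [neg_neg]; ring
    · show (1 / 2 : ℂ) * (f x + f (-x)) = f x
      rw [hf x]; ring
  have ho := hproj.trace
  have he := hproj'.trace
  rw [map_smul, map_sub, trace_par h2, LinearMap.trace_one, Module.finrank_fintype_fun_eq_card,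
    Fintype.card_fun, Fintype.card_fin, smul_eq_mul] at ho
  rw [map_smul, map_add, trace_par h2, LinearMap.trace_one, Module.finrank_fintype_fun_eq_card,
    Fintype.card_fun, Fintype.card_fin, smul_eq_mul] at he
  have h1 : ((Fintype.card F ^ n : ℕ) : ℂ) =
      ((2 * Module.finrank ℂ (oddFn n F) + 1 : ℕ) : ℂ) := by
    push_cast at ho ⊢
    linear_combination 2 * ho
  have h1' := Nat.cast_injective h1
  have h3 : ((Module.finrank ℂ (evenFn n F) : ℕ) : ℂ) = ((Module.finrank ℂ (oddFn n F) + 1 : ℕ) : ℂ) := by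
    push_cast at ho he ⊢
    linear_combination ho - he
  exact ⟨by omega, Nat.cast_injective h3⟩

omit [Fintype F] in
theorem map_oddFn {T : Module.End ℂ (Fn n F)} (h : T * par n F = par n F * T) :
    ∀ f ∈ oddFn n F, T f ∈ oddFn n F := fun f hf x => by
  have e : par n F f = -f := funext fun y => hf y
  have := congrFun (LinearMap.congr_fun h f) x
  rw [Module.End.mul_apply, Module.End.mul_apply, e, map_neg] at this
  exact this.symm

omit [Fintype F] in
theorem map_evenFn {T : Module.End ℂ (Fn n F)} (h : T * par n F = par n F * T) :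
    ∀ f ∈ evenFn n F, T f ∈ evenFn n F := fun f hf x => by
  have e : par n F f = f := funext fun y => hf y
  have := congrFun (LinearMap.congr_fun h f) x
  rw [Module.End.mul_apply, Module.End.mul_apply, e] at this
  exact this.symm

/-- The normalised intertwiner. -/
structure Good (ψ : AddChar F ℂ) (g : Matrix.symplecticGroup (Fin n) F) (T : Module.End ℂ (Fn n F)) :
    Prop where
  inter : Inter ψ g T
  inj : Function.Injective T
  comm : T * par n F = par n F * T
  det : LinearMap.det (T.restrict (map_evenFn comm)) = LinearMap.det (T.restrict (map_oddFn comm))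

theorem exists_good [DecidableEq F] (hψ : ψ ≠ 1) (h2 : (2 : F) ≠ 0)
    (g : Matrix.symplecticGroup (Fin n) F) : ∃ T, Good ψ g T := by
  obtain ⟨T, hT, hinj⟩ := exists_inter hψ h2 g
  have hbij : Function.Bijective T := ⟨hinj, LinearMap.injective_iff_surjective.1 hinj⟩
  let e : Fn n F ≃ₗ[ℂ] Fn n F := LinearEquiv.ofBijective T hbij
  have he : (e : Module.End ℂ (Fn n F)) = T := rfl
  have hes : (e.symm : Module.End ℂ (Fn n F)) * T = 1 := LinearMap.ext fun f => e.symm_apply_apply f
  have hse : T * (e.symm : Module.End ℂ (Fn n F)) = 1 := LinearMap.ext fun f => e.apply_symm_apply f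
  -- conjugating the parity changes it at most by a sign
  have hT' : Inter ψ g (par n F * T * par n F) := fun u => by
    rw [mul_assoc _ (par n F) (op ψ u), par_op, ← mul_assoc _ (op ψ (-u)), mul_assoc (par n F) T, hT,
      mulVec_neg, ← mul_assoc (par n F), par_op, neg_neg]
    simp only [mul_assoc]
  obtain ⟨c, hc⟩ := scalar_of_comm hψ ((e.symm : Module.End ℂ (Fn n F)) * (par n F * T * par n F))
    fun u => by
      have h1 : (e.symm : Module.End ℂ (Fn n F)) * op ψ (g.1 *ᵥ u) = op ψ u * e.symm := by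
        calc (e.symm : Module.End ℂ (Fn n F)) * op ψ (g.1 *ᵥ u)
            = e.symm * (op ψ (g.1 *ᵥ u) * T) * e.symm := by rw [mul_assoc, mul_assoc, hse, mul_one]
          _ = e.symm * (T * op ψ u) * e.symm := by rw [hT]
          _ = op ψ u * e.symm := by rw [← mul_assoc, hes, one_mul]
      rw [mul_assoc, hT', ← mul_assoc, h1, mul_assoc]
  have hc' : par n F * T * par n F = c • T := by
    have := congrArg (T * ·) hc
    simp only [mul_smul_comm, mul_one] at this
    rwa [← mul_assoc, hse, one_mul] at this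
  have hTne : T ≠ 0 := fun h0 => by
    have := hinj (show T (Pi.single 0 1) = T 0 by rw [h0]; rfl)
    simpa using congrFun this 0
  have hcc : c * c = 1 := by
    have h1 : par n F * (par n F * T * par n F) * par n F = T := by
      simp only [← mul_assoc, par_par, one_mul]
      rw [mul_assoc, par_par, mul_one]
    rw [hc', mul_smul_comm, smul_mul_assoc, hc', smul_smul] at h1
    exact smul_left_injective ℂ hTne (show (c * c) • T = (1 : ℂ) • T by rw [one_smul]; exact h1)
  have hc1 : c = 1 := by
    rcases mul_self_eq_one_iff.1 hcc with h | h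
    · exact h
    exfalso
    have h3 : (e.symm : Module.End ℂ (Fn n F)) * par n F * T = -par n F := by
      have : par n F * T = -(T * par n F) := by
        have := congrArg (fun S => S * par n F) hc'
        simp only [mul_assoc, par_par, mul_one] at this
        rw [this, h]
        simp
      refine LinearMap.ext fun f => ?_
      have h5 := LinearMap.congr_fun this f
      simp only [Module.End.mul_apply, LinearMap.neg_apply] at h5 ⊢
      rw [h5, map_neg]
      congr 1
      exact e.symm_apply_apply _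
    have h4 : LinearMap.trace ℂ (Fn n F) ((e.symm : Module.End ℂ (Fn n F)) * par n F * T) =
        LinearMap.trace ℂ (Fn n F) (par n F) := by
      rw [LinearMap.trace_mul_comm, ← mul_assoc, hse, one_mul]
    rw [h3, map_neg, trace_par h2] at h4
    norm_num at h4
  have hcomm : T * par n F = par n F * T := by
    have := congrArg (fun S => par n F * S) hc'
    simp only [← mul_assoc, par_par, one_mul] at this
    rw [this, hc1, one_smul]
  -- normalisation
  set dE := LinearMap.det (T.restrict (map_evenFn hcomm))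
  set dO := LinearMap.det (T.restrict (map_oddFn hcomm))
  have hne : ∀ (p : Submodule ℂ (Fn n F)) (hp : ∀ f ∈ p, T f ∈ p), LinearMap.det (T.restrict hp) ≠ 0 :=
    fun p hp => by
      have hi : Function.Injective (T.restrict hp) := fun a b hab =>
        Subtype.ext (hinj (congrArg Subtype.val hab))
      have := LinearEquiv.isUnit_det' (LinearEquiv.ofBijective (T.restrict hp)
        ⟨hi, LinearMap.injective_iff_surjective.1 hi⟩)
      exact this.ne_zero
  have hE : dE ≠ 0 := hne _ _
  have hO : dO ≠ 0 := hne _ _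
  set k := dO / dE
  have hk : k ≠ 0 := div_ne_zero hO hE
  have hcomm' : (k • T) * par n F = par n F * (k • T) := by rw [smul_mul_assoc, mul_smul_comm, hcomm]
  refine ⟨k • T, fun u => by rw [smul_mul_assoc, mul_smul_comm, hT u], fun a b hab => hinj
    (smul_right_injective _ hk hab), hcomm', ?_⟩
  rw [show (k • T).restrict (map_evenFn hcomm') = k • T.restrict (map_evenFn hcomm) from rfl,
    show (k • T).restrict (map_oddFn hcomm') = k • T.restrict (map_oddFn hcomm) from rfl,
    LinearMap.det_smul, LinearMap.det_smul, (finrank_odd_even h2).2, pow_succ, mul_assoc]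
  congr 1
  exact div_mul_cancel₀ dO hE

theorem good_unique [DecidableEq F] (hψ : ψ ≠ 1) (h2 : (2 : F) ≠ 0)
    {g : Matrix.symplecticGroup (Fin n) F} {T S : Module.End ℂ (Fn n F)} (hT : Good ψ g T)
    (hS : Good ψ g S) : T = S := by
  have hbij : Function.Bijective T := ⟨hT.inj, LinearMap.injective_iff_surjective.1 hT.inj⟩
  let e : Fn n F ≃ₗ[ℂ] Fn n F := LinearEquiv.ofBijective T hbij
  have hes : (e.symm : Module.End ℂ (Fn n F)) * T = 1 := LinearMap.ext fun f => e.symm_apply_apply f
  have hse : T * (e.symm : Module.End ℂ (Fn n F)) = 1 := LinearMap.ext fun f => e.apply_symm_apply f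
  obtain ⟨c, hc⟩ := scalar_of_comm hψ ((e.symm : Module.End ℂ (Fn n F)) * S) fun u => by
    have h1 : (e.symm : Module.End ℂ (Fn n F)) * op ψ (g.1 *ᵥ u) = op ψ u * e.symm := by
      calc (e.symm : Module.End ℂ (Fn n F)) * op ψ (g.1 *ᵥ u)
          = e.symm * (op ψ (g.1 *ᵥ u) * T) * e.symm := by rw [mul_assoc, mul_assoc, hse, mul_one]
        _ = e.symm * (T * op ψ u) * e.symm := by rw [hT.inter]
        _ = op ψ u * e.symm := by rw [← mul_assoc, hes, one_mul]
    rw [mul_assoc, hS.inter, ← mul_assoc, h1, mul_assoc]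
  have hST : S = c • T := by
    have := congrArg (T * ·) hc
    simp only [mul_smul_comm, mul_one] at this
    rwa [← mul_assoc, hse, one_mul] at this
  subst hST
  have hne : LinearMap.det (T.restrict (map_oddFn hT.comm)) ≠ 0 := by
    have hi : Function.Injective (T.restrict (map_oddFn hT.comm)) := fun a b hab =>
      Subtype.ext (hT.inj (congrArg Subtype.val hab))
    exact (LinearEquiv.isUnit_det' (LinearEquiv.ofBijective _
        ⟨hi, LinearMap.injective_iff_surjective.1 hi⟩)).ne_zero
  have h := hS.det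
  rw [show (c • T).restrict (map_evenFn hS.comm) = c • T.restrict (map_evenFn hT.comm) from rfl,
    show (c • T).restrict (map_oddFn hS.comm) = c • T.restrict (map_oddFn hT.comm) from rfl,
    LinearMap.det_smul, LinearMap.det_smul, hT.det, (finrank_odd_even h2).2, pow_succ, mul_assoc] at h
  have hc0 : c ≠ 0 := fun h0 => by
    have := hS.inj (show (c • T) (Pi.single 0 1) = (c • T) 0 by rw [h0]; simp)
    simpa using congrFun this 0
  have h' := mul_left_cancel₀ (pow_ne_zero _ hc0) h
  rw [(mul_eq_right₀ hne).1 h', one_smul]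

theorem good_mul {g h : Matrix.symplecticGroup (Fin n) F} {T S : Module.End ℂ (Fn n F)}
    (hT : Good ψ g T) (hS : Good ψ h S) : Good ψ (g * h) (T * S) := by
  have hcomm : (T * S) * par n F = par n F * (T * S) := by
    rw [mul_assoc, hS.comm, ← mul_assoc, hT.comm, mul_assoc]
  refine ⟨inter_mul hT.inter hS.inter, hT.inj.comp hS.inj, hcomm, ?_⟩
  rw [show (T * S).restrict (map_evenFn hcomm) =
      (T.restrict (map_evenFn hT.comm)).comp (S.restrict (map_evenFn hS.comm)) from rfl,
    show (T * S).restrict (map_oddFn hcomm) =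
      (T.restrict (map_oddFn hT.comm)).comp (S.restrict (map_oddFn hS.comm)) from rfl,
    LinearMap.det_comp, LinearMap.det_comp, hT.det, hS.det]

/-- A representation of dimension `(q^n - 1)/2` of `Sp_{2n}(q)`. -/
theorem exists_irreducible [DecidableEq F] (hn : 2 ≤ n) (hodd : Odd (Fintype.card F)) :
    ∃ ρ : Representation ℂ (Matrix.symplecticGroup (Fin n) F)
      (Fin ((Fintype.card F ^ n - 1) / 2) → ℂ), ρ.IsIrreducible := by
  classical
  have h2 := two_ne hodd
  obtain ⟨ψ, hψ⟩ : ∃ ψ : AddChar F ℂ, ψ ≠ 1 := by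
    have : 1 < Fintype.card (AddChar F ℂ) := by rw [AddChar.card_eq]; exact Fintype.one_lt_card
    exact Fintype.exists_ne_of_one_lt_card this 1
  choose T hT using fun g : Matrix.symplecticGroup (Fin n) F => exists_good hψ h2 g
  have hone : T 1 = 1 := good_unique hψ h2 (hT 1)
    { inter := fun u => by rw [one_mul, mul_one, sp_one_mulVec]
      inj := Function.injective_id
      comm := by rw [one_mul, mul_one]
      det := by
        rw [show (1 : Module.End ℂ (Fn n F)).restrict (map_evenFn (by rw [one_mul, mul_one])) =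
            LinearMap.id from rfl,
          show (1 : Module.End ℂ (Fn n F)).restrict (map_oddFn (by rw [one_mul, mul_one])) =
            LinearMap.id from rfl, LinearMap.det_id, LinearMap.det_id] }
  have hmul : ∀ g h, T (g * h) = T g * T h := fun g h =>
    good_unique hψ h2 (hT (g * h)) (good_mul (hT g) (hT h))
  let π : Representation ℂ (Matrix.symplecticGroup (Fin n) F) (oddFn n F) :=
    { toFun := fun g => (T g).restrict (map_oddFn (hT g).comm)
      map_one' := LinearMap.ext fun f => Subtype.ext (by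
        show T 1 (f : Fn n F) = (f : Fn n F)
        rw [hone]; rfl)
      map_mul' := fun g h => LinearMap.ext fun f => Subtype.ext (by
        show T (g * h) (f : Fn n F) = T g (T h (f : Fn n F))
        rw [hmul]; rfl) }
  obtain ⟨hdim, -⟩ := finrank_odd_even (n := n) h2
  -- the representation is not trivial
  have hnt : ∃ g f, π g f ≠ f := by
    by_contra! htriv
    let x : Fin n → F := Pi.single ⟨0, by omega⟩ 1
    let a : Fin n → F := Pi.single ⟨1, by omega⟩ 1
    have hu : (pR x : Sv n F) ≠ 0 := fun h0 => by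
      have := congrFun h0 (Sum.inr ⟨0, by omega⟩)
      simp [pR, x] at this
    have hw : (pL a : Sv n F) ≠ 0 := fun h0 => by
      have := congrFun h0 (Sum.inl ⟨1, by omega⟩)
      simp [pL, a] at this
    obtain ⟨g, hg⟩ := sp_transitive hu hw
    let f0 : Fn n F := Pi.single x 1 - Pi.single (-x) 1
    have hf0 : f0 ∈ oddFn n F := fun z => by
      simp only [f0, Pi.sub_apply, neg_sub, Pi.single_apply]
      congr 1 <;> simp [neg_eq_iff_eq_neg]
    have hfix : ∀ f ∈ oddFn n F, T g f = f := fun f hf => congrArg Subtype.val (htriv g ⟨f, hf⟩)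
    have hC : ∀ u, op ψ u f0 + op ψ (-u) f0 = op ψ (g.1 *ᵥ u) f0 + op ψ (-(g.1 *ᵥ u)) f0 := by
      intro u
      have e1 : par n F f0 = -f0 := funext fun z => hf0 z
      have hmem : op ψ u f0 + op ψ (-u) f0 ∈ oddFn n F := by
        have h1 := LinearMap.congr_fun (par_op (ψ := ψ) u) f0
        have h3 := LinearMap.congr_fun (par_op (ψ := ψ) (-u)) f0
        simp only [Module.End.mul_apply, e1, map_neg, neg_neg] at h1 h3
        intro z
        have e3 := congrFun h1 z
        have e4 := congrFun h3 z
        simp only [Pi.add_apply, Pi.neg_apply] at e3 e4 ⊢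
        change op ψ u f0 (-z) = _ at e3
        change op ψ (-u) f0 (-z) = _ at e4
        rw [e3, e4]; ring
      have h5 := hfix _ hmem
      rw [map_add, ← Module.End.mul_apply, ← Module.End.mul_apply, (hT g).inter, (hT g).inter,
        Module.End.mul_apply, Module.End.mul_apply, hfix f0 hf0, mulVec_neg] at h5
      exact h5.symm
    have h6 := congrFun (hC (pR x)) (x + a)
    rw [hg] at h6
    have hneg : ∀ b : Fin n → F, -(pR b) = pR (-b) := fun b => by ext (i | i) <;> simp [pR]
    have hnegL : ∀ b : Fin n → F, -(pL b) = pL (-b) := fun b => by ext (i | i) <;> simp [pL]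
    simp only [Pi.add_apply, hneg, hnegL, op_pR, op_pL, f0, Pi.sub_apply, Pi.single_apply] at h6
    have n1 : x + a ≠ x := fun h0 => by
      have := congrFun h0 ⟨1, by omega⟩; simp [x, a] at this
    have n2 : x + a ≠ -x := fun h0 => by
      have := congrFun h0 ⟨1, by omega⟩; simp [x, a] at this
    have n3 : x + a + a ≠ x := fun h0 => by
      have := congrFun h0 ⟨1, by omega⟩; simp [x, a] at this
      exact h2 (by linear_combination this)
    have n4 : x + a + a ≠ -x := fun h0 => by
      have := congrFun h0 ⟨1, by omega⟩; simp [x, a] at this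
      exact h2 (by linear_combination this)
    have n5 : x + a + -a ≠ -x := fun h0 => by
      have := congrFun h0 ⟨0, by omega⟩; simp [x, a] at this
      exact h2 (by linear_combination this)
    have n6 : x ≠ -x := fun h0 => by
      have := congrFun h0 ⟨0, by omega⟩; simp [x] at this
      exact h2 (by linear_combination this)
    simp [n1, n2, n3, n4, n6] at h6
  have htriv : ∀ (W : Submodule ℂ (oddFn n F)), (∀ g, ∀ f ∈ W, π g f ∈ W) → W ≠ ⊥ → W ≠ ⊤ → False := by
    intro W hW hb ht
    have hlt : Module.finrank ℂ W < (Fintype.card F ^ n - 1) / 2 := by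
      rw [← hdim]; exact Submodule.finrank_lt ht
    have h1 := trivial_of_lt π hodd W (fun g => hW g) hlt
    let πq : Representation ℂ (Matrix.symplecticGroup (Fin n) F) ((oddFn n F) ⧸ W) :=
      { toFun := fun g => W.mapQ W (π g) (hW g)
        map_one' := by ext f; simp
        map_mul' := fun g h => by ext f; simp }
    have hlt' : Module.finrank ℂ (⊤ : Submodule ℂ ((oddFn n F) ⧸ W)) < (Fintype.card F ^ n - 1) / 2 := by
      rw [finrank_top, ← hdim, ← W.finrank_quotient_add_finrank]
      have : 0 < Module.finrank ℂ W := Nat.pos_of_ne_zero fun h => hb (Submodule.finrank_eq_zero.1 h)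
      omega
    have h3 := trivial_of_lt πq hodd ⊤ (fun g f _ => Submodule.mem_top) hlt'
    obtain ⟨g, f, hgf⟩ := hnt
    have hd : π g f - f ∈ W :=
      (Submodule.Quotient.eq W).1 (h3 g (Submodule.Quotient.mk f) Submodule.mem_top)
    have hpow : ∀ j : ℕ, π (g ^ j) f = f + (j : ℂ) • (π g f - f) := by
      intro j
      induction j with
      | zero => simp
      | succ j ih =>
        rw [pow_succ', map_mul, Module.End.mul_apply, ih, map_add, map_smul, h1 g _ hd, Nat.cast_succ,
          add_smul, one_smul]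
        abel
    have h4 := hpow (orderOf g)
    rw [pow_orderOf_eq_one, map_one, Module.End.one_apply, left_eq_add, smul_eq_zero] at h4
    rcases h4 with h4 | h4
    · exact (orderOf_pos g).ne' (by exact_mod_cast h4)
    · exact hgf (sub_eq_zero.1 h4)
  let L : oddFn n F ≃ₗ[ℂ] (Fin ((Fintype.card F ^ n - 1) / 2) → ℂ) :=
    LinearEquiv.ofFinrankEq _ _ (by rw [Module.finrank_fin_fun, hdim])
  let ρ : Representation ℂ (Matrix.symplecticGroup (Fin n) F)
      (Fin ((Fintype.card F ^ n - 1) / 2) → ℂ) :=
    { toFun := fun g => L.toLinearMap ∘ₗ π g ∘ₗ L.symm.toLinearMap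
      map_one' := by ext f; simp
      map_mul' := fun g h => by ext f; simp }
  refine ⟨ρ, ?_⟩
  haveI : Nontrivial (Subrepresentation ρ) := by
    refine ⟨⟨⊥, ⊤, fun h => ?_⟩⟩
    obtain ⟨g, f, hgf⟩ := hnt
    have hf0 : f ≠ 0 := fun h0 => hgf (by rw [h0, map_zero])
    have : L f ∈ (⊥ : Subrepresentation ρ).toSubmodule := by rw [h]; trivial
    exact hf0 (L.injective (((Submodule.mem_bot ℂ).mp this).trans (map_zero L).symm))
  refine ⟨fun S => ?_⟩
  let W : Submodule ℂ (oddFn n F) := S.toSubmodule.comap L.toLinearMap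
  have hW : ∀ g, ∀ f ∈ W, π g f ∈ W := fun g f hf => by
    have := S.apply_mem_toSubmodule g hf
    simpa [W, ρ] using this
  by_cases hb : W = ⊥
  · left
    refine Subrepresentation.toSubmodule_injective (le_antisymm (fun y hy => ?_) bot_le)
    have : L.symm y ∈ W := by simpa [W] using hy
    rw [hb, Submodule.mem_bot] at this
    rw [show y = L (L.symm y) by simp, this, map_zero]
    exact Submodule.zero_mem _
  by_cases ht : W = ⊤
  · right
    refine Subrepresentation.toSubmodule_injective (le_antisymm le_top fun y _ => ?_)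
    have : L.symm y ∈ W := ht ▸ Submodule.mem_top
    simpa [W] using this
  exact (htriv W hW hb ht).elim

end

end CfsgLib.KnownA.Weil
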