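import Cfsg.Agent.Lib.Classical.SympBasic
import Cfsg.Agent.Lib.KnownA.CentralChar

/-!
# The Heisenberg group of a point in `Sp`

The Siegel elements `sT e w` and their commutation rules, the part orthogonal to a hyperbolic pair, and
characters of a finite field.
-/

set_option autoImplicit false

namespace CfsgLib.KnownA.Weil

open Matrix CfsgLib.Classical

variable {n : ℕ} {F : Type*} [Field F]

/-- The space of `Sp`. -/
abbrev Sv (n : ℕ) (F : Type*) := Fin n ⊕ Fin n → F

/-- The Siegel element `x ↦ x + B(e,x) w + B(w,x) e`, for `w` orthogonal to `e`. -/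
def sT (e w : Sv n F) : Matrix.symplecticGroup (Fin n) F :=
  stv 1 (e + w) * stv (-1) w * stv (-1) e

theorem sT_mulVec {e w : Sv n F} (h : sbil e w = 0) (x : Sv n F) :
    (sT e w).1 *ᵥ x = x + sbil e x • w + sbil w x • e := by
  have h' : sbil w e = 0 := by rw [sbil_swap, h, neg_zero]
  simp only [sT, sp_mul_mulVec, stv_mulVec, sbil_add_left, sbil_add_right, sbil_smul_right, sbil_self,
    h, h']
  module

theorem sT_zero (e : Sv n F) : sT e 0 = 1 := by
  refine sp_ext fun x => ?_
  rw [sT_mulVec (by simp [sbil]) x, sp_one_mulVec]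
  simp [sbil]

theorem sT_conj {g : Matrix.symplecticGroup (Fin n) F} {e : Sv n F} (hge : g.1 *ᵥ e = e) (w : Sv n F) :
    g * sT e w * g⁻¹ = sT e (g.1 *ᵥ w) := by
  have : g * sT e w * g⁻¹ = (g * stv 1 (e + w) * g⁻¹) * (g * stv (-1) w * g⁻¹) * (g * stv (-1) e * g⁻¹) := by
    rw [sT]; group
  rw [this, stv_conj, stv_conj, stv_conj, mulVec_add, hge]
  rfl

theorem sT_mem {e w : Sv n F} {H : Submodule F (Sv n F)} (he : e ∈ H) (hw : w ∈ H) :
    sT e w ∈ stvClosure H :=
  mul_mem (mul_mem (stv_mem_stvClosure _ (H.add_mem he hw)) (stv_mem_stvClosure _ hw))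
    (stv_mem_stvClosure _ he)

theorem sT_fix {e w : Sv n F} (h : sbil e w = 0) : (sT e w).1 *ᵥ e = e := by
  rw [sT_mulVec h, sbil_self, zero_smul, sbil_swap, h, neg_zero, zero_smul, add_zero, add_zero]

theorem sT_mul {e w w' : Sv n F} (h : sbil e w = 0) (h' : sbil e w' = 0) :
    sT e w * sT e w' = stv (sbil w w') e * sT e (w + w') := by
  have hw' : sbil w e = 0 := by rw [sbil_swap, h, neg_zero]
  refine sp_ext fun x => ?_
  rw [sp_mul_mulVec, sp_mul_mulVec, sT_mulVec h', sT_mulVec h, stv_mulVec,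
    sT_mulVec (by rw [sbil_add_right, h, h', add_zero])]
  simp only [sbil_add_left, sbil_add_right, sbil_smul_right, sbil_self, h, h', hw']
  module

/-- Elements fixing `e` commute with the transvections of `e`. -/
theorem stv_commute {g : Matrix.symplecticGroup (Fin n) F} {e : Sv n F} (hge : g.1 *ᵥ e = e) (c : F) :
    stv c e * g = g * stv c e := by
  have := stv_conj g c e
  rw [hge] at this
  conv_lhs => rw [← this]
  group

theorem stv_sT_comm {e w w' : Sv n F} (h : sbil e w = 0) (h' : sbil e w' = 0) :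
    sT e w * sT e w' = stv (2 * sbil w w') e * (sT e w' * sT e w) := by
  rw [sT_mul h h', sT_mul h' h, ← mul_assoc, stv_mul, add_comm w' w, sbil_swap w w']
  congr 2
  ring

/-- A transvection of a combination of two orthogonal vectors. -/
theorem stv_combination {e v : Sv n F} (hev : sbil e v = 0) (c α β : F) :
    stv c (α • e + β • v) = stv (c * α ^ 2) e * stv (c * β ^ 2) v * sT e ((c * (α * β)) • v) := by
  have hve : sbil v e = 0 := by rw [sbil_swap, hev, neg_zero]
  refine sp_ext fun x => ?_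
  rw [sp_mul_mulVec, sp_mul_mulVec, sT_mulVec (by rw [sbil_smul_right, hev, mul_zero]), stv_mulVec,
    stv_mulVec, stv_mulVec]
  simp only [sbil_add_left, sbil_add_right, sbil_smul_left, sbil_smul_right, sbil_self, hev, hve]
  module

/-! ### Pairs -/

/-- A hyperbolic pair in `H`. -/
structure IsPair (H : Submodule F (Sv n F)) (e f : Sv n F) : Prop where
  he : e ∈ H
  hf : f ∈ H
  ef : sbil e f = 1

theorem IsPair.fe {H : Submodule F (Sv n F)} {e f : Sv n F} (hp : IsPair H e f) : sbil f e = -1 := by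
  rw [sbil_swap, hp.ef]

theorem exists_pair {H : Submodule F (Sv n F)} (hN : SNondeg H) {e : Sv n F} (he : e ∈ H) (h0 : e ≠ 0) :
    ∃ f, IsPair H e f := by
  obtain ⟨y, hy, hye⟩ := hN e he h0
  exact ⟨(sbil e y)⁻¹ • y, he, H.smul_mem _ hy, by rw [sbil_smul_right, inv_mul_cancel₀ hye]⟩

/-- The part of `H` orthogonal to the pair. -/
def inner0 (H : Submodule F (Sv n F)) (e f : Sv n F) : Submodule F (Sv n F) where
  carrier := {x | x ∈ H ∧ sbil e x = 0 ∧ sbil f x = 0}
  add_mem' {x y} hx hy := ⟨H.add_mem hx.1 hy.1, by rw [sbil_add_right, hx.2.1, hy.2.1, add_zero],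
    by rw [sbil_add_right, hx.2.2, hy.2.2, add_zero]⟩
  zero_mem' := ⟨H.zero_mem, by simp [sbil], by simp [sbil]⟩
  smul_mem' c x hx := ⟨H.smul_mem c hx.1, by rw [sbil_smul_right, hx.2.1, mul_zero],
    by rw [sbil_smul_right, hx.2.2, mul_zero]⟩

theorem mem_inner0 {H : Submodule F (Sv n F)} {e f x : Sv n F} :
    x ∈ inner0 H e f ↔ x ∈ H ∧ sbil e x = 0 ∧ sbil f x = 0 := Iff.rfl

theorem inner0_le (H : Submodule F (Sv n F)) (e f : Sv n F) : inner0 H e f ≤ H := fun _ hx => hx.1

theorem finrank_inner0 {H : Submodule F (Sv n F)} {e f : Sv n F} (hp : IsPair H e f) :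
    Module.finrank F (inner0 H e f) + 2 = Module.finrank F H := by
  let L : H →ₗ[F] F × F :=
    { toFun := fun x => (sbil e (x : Sv n F), sbil f (x : Sv n F))
      map_add' := fun x y => by simp [sbil_add_right]
      map_smul' := fun c x => by simp [sbil_smul_right] }
  have hL : LinearMap.range L = ⊤ := by
    rw [LinearMap.range_eq_top]
    rintro ⟨a, b⟩
    refine ⟨⟨a • f - b • e, H.sub_mem (H.smul_mem _ hp.hf) (H.smul_mem _ hp.he)⟩, ?_⟩
    simp [L, sbil_sub_right, sbil_smul_right, hp.ef, hp.fe]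
  have h1 := L.finrank_range_add_finrank_ker
  rw [hL, finrank_top, Module.finrank_prod, Module.finrank_self] at h1
  have h2 : LinearMap.ker L = Submodule.comap H.subtype (inner0 H e f) := by
    ext x
    simp [L, mem_inner0]
  rw [h2, (Submodule.comapSubtypeEquivOfLe (inner0_le H e f)).finrank_eq] at h1
  omega

theorem snondeg_inner0 {H : Submodule F (Sv n F)} (hN : SNondeg H) {e f : Sv n F} (hp : IsPair H e f) :
    SNondeg (inner0 H e f) := by
  intro x hx hx0
  obtain ⟨hxH, hxe, hxf⟩ := mem_inner0.mp hx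
  obtain ⟨y, hy, hxy⟩ := hN x hxH hx0
  refine ⟨y - sbil e y • f + sbil f y • e, mem_inner0.mpr
    ⟨H.add_mem (H.sub_mem hy (H.smul_mem _ hp.hf)) (H.smul_mem _ hp.he), ?_, ?_⟩, ?_⟩
  · simp [sbil_add_right, sbil_sub_right, sbil_smul_right, hp.ef]
  · simp [sbil_add_right, sbil_sub_right, sbil_smul_right, hp.fe]
  · have h1 : sbil x e = 0 := by rw [sbil_swap, hxe, neg_zero]
    have h2 : sbil x f = 0 := by rw [sbil_swap, hxf, neg_zero]
    simpa [sbil_add_right, sbil_sub_right, sbil_smul_right, h1, h2] using hxy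

theorem fix_of_inner0 {H : Submodule F (Sv n F)} {e f : Sv n F} {g : Matrix.symplecticGroup (Fin n) F}
    (hg : g ∈ stvClosure (inner0 H e f)) : g.1 *ᵥ e = e :=
  stvClosure_fix hg fun v hv => by rw [sbil_swap, (mem_inner0.mp hv).2.1, neg_zero]

theorem stvClosure_mono {A B : Submodule F (Sv n F)} (h : A ≤ B) : stvClosure A ≤ stvClosure B :=
  Subgroup.closure_mono fun _ ⟨a, v, hv, e⟩ => ⟨a, v, h hv, e⟩

/-! ### Characters -/

theorem exists_mulShift [Fintype F] {ψ : AddChar F ℂ} (hψ : ψ ≠ 1) (φ : AddChar F ℂ) :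
    ∃ r : F, AddChar.mulShift ψ r = φ := by
  have hcard : Nat.card F = Nat.card (AddChar F ℂ) := by
    rw [Nat.card_eq_fintype_card (α := AddChar F ℂ), AddChar.card_eq, ← Nat.card_eq_fintype_card]
  exact (Nat.bijective_iff_injective_and_card _).mpr
    ⟨AddChar.to_mulShift_inj_of_isPrimitive (AddChar.IsPrimitive.of_ne_one hψ), hcard⟩ |>.2 φ

theorem two_ne [Fintype F] (hodd : Odd (Fintype.card F)) : (2 : F) ≠ 0 := fun h => by
  have h2 := FiniteField.even_card_iff_char_two (F := F)
  have hr : ringChar F = 2 := by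
    have : ringChar F ∣ 2 := ringChar.dvd (by exact_mod_cast h)
    rcases (Nat.dvd_prime Nat.prime_two).1 this with h1 | h1
    · exact absurd h1 (CharP.ringChar_ne_one)
    · exact h1
  have := h2.1 hr
  obtain ⟨k, hk⟩ := hodd
  omega

/-- A binary diagonal form represents everything. -/
theorem exists_sq_add_mul_sq [Fintype F] (hodd : Odd (Fintype.card F)) {s : F} (hs : s ≠ 0) (r : F) :
    ∃ α β : F, α ^ 2 + s * β ^ 2 = r := by
  obtain ⟨a, b, hab⟩ := FiniteField.exists_root_sum_quadratic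
    (f := Polynomial.X ^ 2 - Polynomial.C r) (g := Polynomial.C s * Polynomial.X ^ 2)
    (Polynomial.degree_X_pow_sub_C two_pos r) (Polynomial.degree_C_mul_X_pow 2 hs) (Nat.odd_iff.1 hodd)
  refine ⟨a, b, ?_⟩
  simp at hab
  linear_combination hab

/-- The squares give at least half of the non-trivial characters. -/
theorem exists_square_shifts [Fintype F] [DecidableEq F] {ψ : AddChar F ℂ} (hψ : ψ ≠ 1) :
    ∃ S : Finset (AddChar F ℂ), (Fintype.card F - 1) / 2 ≤ S.card ∧
      ∀ φ ∈ S, φ ≠ 1 ∧ ∃ t : F, t ≠ 0 ∧ φ = AddChar.mulShift ψ (t ^ 2) := by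
  classical
  have hp := AddChar.IsPrimitive.of_ne_one hψ
  refine ⟨(Finset.univ.erase (0 : F)).image fun t => AddChar.mulShift ψ (t ^ 2), ?_, ?_⟩
  · have h := Finset.card_le_mul_card_image (f := fun t : F => AddChar.mulShift ψ (t ^ 2))
      (Finset.univ.erase (0 : F)) 2 (fun φ hφ => by
        obtain ⟨t, -, rfl⟩ := Finset.mem_image.mp hφ
        refine le_trans (Finset.card_le_card (t := {t, -t}) fun x hx => ?_) Finset.card_le_two
        rw [Finset.mem_filter] at hx
        rcases sq_eq_sq_iff_eq_or_eq_neg.mp (AddChar.to_mulShift_inj_of_isPrimitive hp hx.2) with h | h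
        · simp [h]
        · simp [h])
    rw [Finset.card_erase_of_mem (Finset.mem_univ _), Finset.card_univ] at h
    omega
  · intro φ hφ
    obtain ⟨t, ht, rfl⟩ := Finset.mem_image.mp hφ
    have ht0 : t ≠ 0 := Finset.ne_of_mem_erase ht
    exact ⟨hp (pow_ne_zero 2 ht0), t, ht0, rfl⟩

end CfsgLib.KnownA.Weil
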